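import Groth.Agent.PDLib.PD

/-! Projective dimension is computed on the fibres. -/

set_option autoImplicit false
universe u

open CategoryTheory TensorProduct

namespace PDLib

section

variable {A : Type u} [CommRing A]

/-- A short exact sequence with flat quotient stays injective after tensoring. -/
theorem lTensor_injective_of_flat {K F Q : Type u} (L : Type u) [CommRing L] [Algebra A L] [AddCommGroup K]
    [Module A K] [AddCommGroup F] [Module A F] [AddCommGroup Q] [Module A Q] [Module.Flat A Q] (i : K →ₗ[A] F)
    (g : F →ₗ[A] Q) (hi : Function.Injective i) (hex : Function.Exact i g) (hg : Function.Surjective g) :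
    Function.Injective (i.lTensor L) := by
  rw [LinearMap.lTensor_inj_iff_rTensor_inj]
  refine (injective_iff_map_eq_zero _).2 fun x hx => ?_
  by_contra hne
  let Ann : Ideal A := LinearMap.ker (LinearMap.toSpanSingleton A _ x)
  have hAnn : Ann ≠ ⊤ := fun h => hne (by
    have h1 : (1 : A) ∈ Ann := h ▸ Submodule.mem_top
    rwa [LinearMap.mem_ker, LinearMap.toSpanSingleton_apply, one_smul] at h1)
  obtain ⟨q, hq, hle⟩ := Ideal.exists_le_maximal Ann hAnn
  have hπ : (⟨q, hq.isPrime⟩ : PrimeSpectrum A) ∈ FlatLib.flatLocus A A Q :=
    FlatLib.flat_localized q.primeCompl (LocalizedModule.mkLinearMap _ _)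
  obtain ⟨t, ht, htx⟩ := exists_smul_eq_zero i g hi hex hg _ hπ x (by simpa using hx)
  exact ht (hle (by rw [LinearMap.mem_ker, LinearMap.toSpanSingleton_apply]; exact htx))

/-- A torsion element vanishing in the residue field tensor is killed outside the prime. -/
theorem exists_smul_eq_zero_of_residueField (p : Ideal A) [p.IsPrime] {X : Type u} [AddCommGroup X] [Module A X]
    (hX : Module.IsTorsionBySet A X (p : Set A)) (x : X) (hx : (1 : p.ResidueField) ⊗ₜ[A] x = 0) :
    ∃ s ∉ p, s • x = 0 := by
  by_contra hne
  push_neg at hne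
  let l := LinearMap.toSpanSingleton A X x
  have hJ : LinearMap.ker l ≤ LinearMap.ker (Algebra.linearMap A p.ResidueField) := fun a ha => by
    rw [LinearMap.mem_ker, Algebra.linearMap_apply, Ideal.algebraMap_residueField_eq_zero]
    by_contra hap
    exact hne a hap (by rwa [LinearMap.mem_ker, LinearMap.toSpanSingleton_apply] at ha)
  let g : LinearMap.range l →ₗ[A] p.ResidueField :=
    (LinearMap.ker l).liftQ (Algebra.linearMap A p.ResidueField) hJ ∘ₗ l.quotKerEquivRange.symm.toLinearMap
  let x' : LinearMap.range l := ⟨x, 1, one_smul A x⟩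
  have hg : g x' = 1 := by
    have : l.quotKerEquivRange (Submodule.Quotient.mk 1) = x' := Subtype.ext (one_smul A x)
    show (LinearMap.ker l).liftQ _ hJ (l.quotKerEquivRange.symm x') = 1
    rw [← this, LinearEquiv.symm_apply_apply, Submodule.liftQ_apply, Algebra.linearMap_apply, map_one]
  have hinj : Function.Injective ((LinearMap.range l).subtype.lTensor p.ResidueField) :=
    FlatLib.injective_lTensor_field _ Subtype.val_injective (by rwa [Ideal.ker_algebraMap_residueField])
  have h0 : (1 : p.ResidueField) ⊗ₜ[A] x' = 0 := hinj (by rw [LinearMap.lTensor_tmul, map_zero]; exact hx)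
  have h1 := congrArg (LinearMap.mul' A p.ResidueField ∘ₗ g.lTensor p.ResidueField) h0
  rw [LinearMap.comp_apply, LinearMap.lTensor_tmul, hg, LinearMap.mul'_apply, one_mul, map_zero] at h1
  exact one_ne_zero h1

end

section

variable {A B : Type u} [CommRing A] [CommRing B] [Algebra A B]

/-- Base change to `B ⊗ L` as a tensor product over the base. -/
noncomputable def fibEquiv (L : Type u) [CommRing L] [Algebra A L] (X : Type u) [AddCommGroup X] [Module B X]
    [Module A X] [IsScalarTower A B X] : (B ⊗[A] L) ⊗[B] X ≃+ L ⊗[A] X :=
  ((TensorProduct.comm B (B ⊗[A] L) X).toAddEquiv.trans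
    (AlgebraTensorModule.cancelBaseChange A B B X L).toAddEquiv).trans (TensorProduct.comm A X L).toAddEquiv

theorem fibEquiv_tmul (L : Type u) [CommRing L] [Algebra A L] (X : Type u) [AddCommGroup X] [Module B X]
    [Module A X] [IsScalarTower A B X] (b : B) (c : L) (x : X) :
    fibEquiv L X ((b ⊗ₜ[A] c) ⊗ₜ[B] x) = c ⊗ₜ[A] (b • x) := rfl

/-- Injectivity after base change to `B ⊗ L` is read over the base. -/
theorem baseChange_injective (L : Type u) [CommRing L] [Algebra A L] {X Y : Type u} [AddCommGroup X] [Module B X]
    [Module A X] [IsScalarTower A B X] [AddCommGroup Y] [Module B Y] [Module A Y] [IsScalarTower A B Y]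
    (f : X →ₗ[B] Y) (h : Function.Injective ((f.restrictScalars A).lTensor L)) :
    Function.Injective (f.baseChange (B ⊗[A] L)) := by
  have e : ∀ z, fibEquiv L Y (f.baseChange (B ⊗[A] L) z) = (f.restrictScalars A).lTensor L (fibEquiv L X z) := by
    intro z
    induction z using TensorProduct.induction_on with
    | zero => simp
    | add a b ha hb => simp only [map_add, ha, hb]
    | tmul c x =>
      induction c using TensorProduct.induction_on with
      | zero => simp
      | add a b ha hb => simp only [TensorProduct.add_tmul, map_add, ha, hb]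
      | tmul b c =>
        rw [LinearMap.baseChange_tmul, fibEquiv_tmul, fibEquiv_tmul, LinearMap.lTensor_tmul,
          LinearMap.restrictScalars_apply, map_smul]
  exact fun z w hzw => (fibEquiv L X).injective (h (by rw [← e, ← e, hzw]))

theorem isTorsion_tensor (p : Ideal A) (M P : Type u) [AddCommGroup M] [Module B M] [Module A M] [IsScalarTower A B M]
    [AddCommGroup P] [Module B P] (hP : Module.IsTorsionBySet B P (p.map (algebraMap A B) : Set B)) :
    Module.IsTorsionBySet A (M ⊗[B] P) (p : Set A) := by
  intro z a
  induction z using TensorProduct.induction_on with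
  | zero => simp
  | add y w hy hw => rw [smul_add, hy, hw, add_zero]
  | tmul m n =>
    rw [← algebraMap_smul B (a : A) (m ⊗ₜ[B] n), smul_tmul', TensorProduct.smul_tmul,
      show algebraMap A B a • n = 0 from @hP n ⟨_, Ideal.mem_map_of_mem _ a.2⟩, tmul_zero]

variable [Algebra.FinitePresentation A B] [Module.Flat A B]
variable (M : Type u) [AddCommGroup M] [Module B M] [Module A M] [IsScalarTower A B M]
  [Module.FinitePresentation B M] [Module.Flat A M]

/-- Flatness on the fibres gives projectivity. -/
theorem projective_of_fibre (h : ∀ p : PrimeSpectrum A,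
    Module.Flat (B ⊗[A] p.asIdeal.ResidueField) ((B ⊗[A] p.asIdeal.ResidueField) ⊗[B] M)) :
    Module.Projective B M := by
  have : Module.Flat B M := by
    refine Module.flat_of_localized_maximal M fun P hP => ?_
    let q : PrimeSpectrum B := ⟨P, hP.isPrime⟩
    rcases subsingleton_or_nontrivial (LocalizedModule P.primeCompl M) with hs | hnt
    · infer_instance
    have hq : q ∈ FlatLib.flatLocus A B M :=
      FlatLib.flat_localized q.asIdeal.primeCompl (LocalizedModule.mkLinearMap _ _)
    let p : PrimeSpectrum A := PrimeSpectrum.comap (algebraMap A B) q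
    let L := p.asIdeal.ResidueField
    have hfib : FlatLib.FibFlat B B M (p.asIdeal.map (algebraMap A B)) q.asIdeal := by
      intro T _ _ htor N x hx
      letI : Module A T := Module.compHom T (algebraMap A B)
      haveI : IsScalarTower A B T := IsScalarTower.of_algebraMap_smul fun _ _ => rfl
      have hT : Module.IsTorsionBySet A T (RingHom.ker (algebraMap A L) : Set A) := fun z a =>
        @htor z ⟨algebraMap A B a.1, Ideal.mem_map_of_mem _
          ((SetLike.ext_iff.1 (Ideal.ker_algebraMap_residueField p.asIdeal) a.1).1 a.2)⟩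
      have hbc := baseChange_injective L N.subtype
        (FlatLib.injective_lTensor_field _ Subtype.val_injective hT)
      have := h p
      have hl := Module.Flat.lTensor_preserves_injective_linearMap (M := (B ⊗[A] L) ⊗[B] M) _ hbc
      let dN := AlgebraTensorModule.distribBaseChange B (B ⊗[A] L) M N
      let dT := AlgebraTensorModule.distribBaseChange B (B ⊗[A] L) M T
      have hd : ∀ z : M ⊗[B] N, (N.subtype.baseChange (B ⊗[A] L)).lTensor _ (dN (1 ⊗ₜ z)) =
          dT (1 ⊗ₜ (N.subtype.lTensor M z)) := fun z => by
        induction z using TensorProduct.induction_on with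
        | zero => simp
        | add a b ha hb => simp only [TensorProduct.tmul_add, map_add, ha, hb]
        | tmul m n => simp [dN, dT]
      have h1 : (1 : B ⊗[A] L) ⊗ₜ[B] x = 0 := dN.injective (hl (by
        rw [hd, hx, tmul_zero, map_zero, map_zero, map_zero]))
      have h2 : (1 : L) ⊗ₜ[A] x = 0 := by
        have := congrArg (fibEquiv L (M ⊗[B] N)) h1
        rwa [Algebra.TensorProduct.one_def, fibEquiv_tmul, one_smul, map_zero] at this
      obtain ⟨s, hs, hsx⟩ := exists_smul_eq_zero_of_residueField p.asIdeal
        (isTorsion_tensor p.asIdeal M N fun z a => Subtype.ext (@htor z.1 a)) x h2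
      exact ⟨algebraMap A B s, hs, by rw [algebraMap_smul]; exact hsx⟩
    obtain ⟨U, -, hqU, hU⟩ := FlatLib.exists_open_of_fibFlat (R := A) (S := B) (S' := B) q hq hfib hnt
    exact (hU q hqU).1
  exact Module.Flat.projective_of_finitePresentation

omit [Algebra.FinitePresentation A B] [Module.Flat A B] [Module.Flat A M] [Module A M] [IsScalarTower A B M] in
theorem subsingleton_iff_fibre :
    Subsingleton M ↔ ∀ p : PrimeSpectrum A, Subsingleton ((B ⊗[A] p.asIdeal.ResidueField) ⊗[B] M) := by
  refine ⟨fun _ p => inferInstance, fun h => ?_⟩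
  rw [← Module.support_eq_empty_iff (R := B), Set.eq_empty_iff_forall_notMem]
  intro q hq
  rw [Module.mem_support_iff_nontrivial_residueField_tensorProduct] at hq
  let p : PrimeSpectrum A := PrimeSpectrum.comap (algebraMap A B) q
  let K := q.asIdeal.ResidueField
  have hker : p.asIdeal ≤ RingHom.ker (Algebra.ofId A K).toRingHom := fun a ha => by
    show algebraMap A K a = 0
    rw [IsScalarTower.algebraMap_apply A B K, Ideal.algebraMap_residueField_eq_zero]
    exact ha
  have hunit : p.asIdeal.primeCompl ≤ (IsUnit.submonoid K).comap (Algebra.ofId A K).toRingHom := fun a ha => by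
    refine isUnit_iff_ne_zero.2 fun h0 => ha ?_
    rw [show (Algebra.ofId A K).toRingHom a = algebraMap B K (algebraMap A B a) from
      IsScalarTower.algebraMap_apply A B K a, Ideal.algebraMap_residueField_eq_zero] at h0
    exact h0
  let ψ := Ideal.ResidueField.liftₐ p.asIdeal (Algebra.ofId A K) hker hunit
  let φ : B ⊗[A] p.asIdeal.ResidueField →ₐ[B] K :=
    Algebra.TensorProduct.lift (Algebra.ofId B K) ψ fun _ _ => Commute.all _ _
  have := h p
  letI : Algebra (B ⊗[A] p.asIdeal.ResidueField) K := φ.toRingHom.toAlgebra
  haveI : IsScalarTower B (B ⊗[A] p.asIdeal.ResidueField) K :=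
    IsScalarTower.of_algebraMap_eq fun b => (φ.commutes b).symm
  have hs : Subsingleton (K ⊗[B] M) :=
    (AlgebraTensorModule.cancelBaseChange B (B ⊗[A] p.asIdeal.ResidueField) K K M).symm.injective.subsingleton
  exact (not_nontrivial_iff_subsingleton.2 hs) hq

end

variable {A B : Type u} [CommRing A] [CommRing B] [Algebra A B] [Algebra.FinitePresentation A B] [Module.Flat A B]

/-- Projective dimension on the fibres. -/
theorem hasPDLE_iff_fibre : ∀ (n : ℕ) (M : Type u) [AddCommGroup M] [Module B M] [Module A M]
    [IsScalarTower A B M] [Module.FinitePresentation B M] [Module.Flat A M],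
    HasProjectiveDimensionLE (ModuleCat.of B M) n ↔ ∀ p : PrimeSpectrum A, HasProjectiveDimensionLE
      (ModuleCat.of (B ⊗[A] p.asIdeal.ResidueField) ((B ⊗[A] p.asIdeal.ResidueField) ⊗[B] M)) n := by
  intro n
  induction n with
  | zero =>
    intro M _ _ _ _ _ _
    simp only [← projective_iff_hasProjectiveDimensionLE_zero, ← IsProjective.iff_projective]
    refine ⟨fun _ p => inferInstance, fun h => projective_of_fibre (A := A) M fun p => ?_⟩
    have := h p
    infer_instance
  | succ n ih =>
    intro M _ _ _ _ _ _
    obtain ⟨m, g, hg, _, _⟩ := exists_step (A := A) (B := B) M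
    have hex := LinearMap.exact_subtype_ker_map g
    rw [hasPDLE_succ_iff (LinearMap.ker g).subtype g Subtype.val_injective hex hg n, ih (LinearMap.ker g)]
    refine forall_congr' fun p => (hasPDLE_succ_iff ((LinearMap.ker g).subtype.baseChange (B ⊗[A] p.asIdeal.ResidueField))
      (g.baseChange (B ⊗[A] p.asIdeal.ResidueField)) (baseChange_injective _ _ ?_) (lTensor_exact _ hex hg)
      (LinearMap.lTensor_surjective _ hg) n).symm
    exact lTensor_injective_of_flat _ ((LinearMap.ker g).subtype.restrictScalars A) (g.restrictScalars A)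
      Subtype.val_injective hex hg

end PDLib
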