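import Groth.Agent.FlatLib.OpenFP
import Groth.Agent.FlatLib.FibMaster

/-! Finitely presented modules flat over the base have finitely presented syzygies. -/

set_option autoImplicit false
universe u

open TensorProduct LinearMap

attribute [local instance] MvPolynomial.algebraMvPolynomial

namespace PDLib

/-- Base change of a short exact sequence stays injective up to a factor where the quotient is flat. -/
theorem exists_smul_eq_zero {R₁ R' S₁ K F Q : Type u} [CommRing R₁] [CommRing R'] [CommRing S₁] [Algebra R₁ R']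
    [Algebra R₁ S₁] [AddCommGroup K] [Module R₁ K] [Module S₁ K] [IsScalarTower R₁ S₁ K] [AddCommGroup F]
    [Module R₁ F] [Module S₁ F] [IsScalarTower R₁ S₁ F] [AddCommGroup Q] [Module R₁ Q] [Module S₁ Q]
    [IsScalarTower R₁ S₁ Q] (i : K →ₗ[S₁] F) (g : F →ₗ[S₁] Q) (hi : Function.Injective i)
    (hex : Function.Exact i g) (hg : Function.Surjective g) (π : PrimeSpectrum S₁)
    (hπ : π ∈ FlatLib.flatLocus R₁ S₁ Q) (x : K ⊗[R₁] R') (hx : (i.restrictScalars R₁).rTensor R' x = 0) :
    ∃ t ∉ π.asIdeal, t • x = 0 := by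
  let l : (R' →₀ R₁) →ₗ[R₁] R' := Finsupp.linearCombination R₁ id
  have hl : Function.Surjective l := fun r => ⟨Finsupp.single r 1, (Finsupp.linearCombination_single R₁ 1 r).trans (one_smul R₁ r)⟩
  obtain ⟨y, rfl⟩ := LinearMap.lTensor_surjective K hl x
  have hy : l.lTensor F ((i.restrictScalars R₁).rTensor (R' →₀ R₁) y) = 0 := by
    rw [← LinearMap.comp_apply, LinearMap.lTensor_comp_rTensor, ← LinearMap.rTensor_comp_lTensor,
      LinearMap.comp_apply, hx]
  obtain ⟨w, hw⟩ := (lTensor_exact (M := LinearMap.ker l) (N := R' →₀ R₁) (P := R') F (f := (LinearMap.ker l).subtype) (g := l) (LinearMap.exact_subtype_ker_map l) hl ((i.restrictScalars R₁).rTensor (R' →₀ R₁) y)).1 hy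
  have hw' : (LinearMap.ker l).subtype.lTensor Q ((g.restrictScalars R₁).rTensor _ w) = 0 := by
    rw [← LinearMap.comp_apply, LinearMap.lTensor_comp_rTensor, ← LinearMap.rTensor_comp_lTensor,
      LinearMap.comp_apply, hw, ← LinearMap.comp_apply, ← LinearMap.rTensor_comp,
      show (g.restrictScalars R₁) ∘ₗ (i.restrictScalars R₁) = 0 from LinearMap.ext hex.apply_apply_eq_zero]
    simp
  obtain ⟨t, ht, htw⟩ :=
    (FlatLib.flat_localized_iff π.asIdeal.primeCompl (LocalizedModule.mkLinearMap _ Q)).1 hπ (R' →₀ R₁) _ _ hw'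
  have hsm : ∀ {X Y N : Type u} [AddCommGroup X] [Module R₁ X] [Module S₁ X] [IsScalarTower R₁ S₁ X]
      [AddCommGroup Y] [Module R₁ Y] [Module S₁ Y] [IsScalarTower R₁ S₁ Y] [AddCommMonoid N] [Module R₁ N]
      (h : X →ₗ[S₁] Y) (z : X ⊗[R₁] N), (h.restrictScalars R₁).rTensor N (t • z) = t • (h.restrictScalars R₁).rTensor N z := by
    intro X Y N _ _ _ _ _ _ _ _ _ _ h z
    induction z using TensorProduct.induction_on with
    | zero => simp
    | add a b ha hb => simp only [smul_add, map_add, ha, hb]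
    | tmul a b => simp [smul_tmul']
  have hsm' : ∀ {X N N' : Type u} [AddCommGroup X] [Module R₁ X] [Module S₁ X] [IsScalarTower R₁ S₁ X]
      [AddCommMonoid N] [Module R₁ N] [AddCommMonoid N'] [Module R₁ N'] (h : N →ₗ[R₁] N') (z : X ⊗[R₁] N),
      h.lTensor X (t • z) = t • h.lTensor X z := by
    intro X N N' _ _ _ _ _ _ _ _ h z
    induction z using TensorProduct.induction_on with
    | zero => simp
    | add a b ha hb => simp only [smul_add, map_add, ha, hb]
    | tmul a b => simp [smul_tmul']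
  obtain ⟨v, hv⟩ := (rTensor_exact (LinearMap.ker l) (f := (i.restrictScalars R₁)) (g := (g.restrictScalars R₁)) hex hg (t • w)).1 (by
    rw [hsm g w]; exact htw)
  refine ⟨t, ht, ?_⟩
  have hinj : Function.Injective ((i.restrictScalars R₁).rTensor (R' →₀ R₁)) := Module.Flat.rTensor_preserves_injective_linearMap (i.restrictScalars R₁) hi
  have : t • y = (LinearMap.ker l).subtype.lTensor K v := hinj (by
    rw [hsm i y, ← hw, ← hsm' (LinearMap.ker l).subtype w, ← hv, ← LinearMap.comp_apply, ← LinearMap.comp_apply,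
      LinearMap.lTensor_comp_rTensor, LinearMap.rTensor_comp_lTensor])
  rw [← hsm', this, ← LinearMap.comp_apply, ← LinearMap.lTensor_comp, LinearMap.comp_ker_subtype]
  simp

variable {σ R : Type u} [Finite σ] [CommRing R]

/-- Flatness at a stage passes to larger stages. -/
theorem mem_flatLocus_map {A M₀ R₁ R₂ : Type u} [CommRing A] [AddCommGroup M₀] [Module A M₀]
    [Module (MvPolynomial σ A) M₀] [IsScalarTower A (MvPolynomial σ A) M₀] [CommRing R₁] [Algebra A R₁]
    [CommRing R₂] [Algebra A R₂] (φ : R₁ →ₐ[A] R₂) (q : PrimeSpectrum (MvPolynomial σ R₂))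
    (hq : PrimeSpectrum.comap (FlatLib.polyMap σ φ).toRingHom q ∈
      FlatLib.flatLocus R₁ (MvPolynomial σ R₁) (FlatLib.BC σ A M₀ R₁)) :
    q ∈ FlatLib.flatLocus R₂ (MvPolynomial σ R₂) (FlatLib.BC σ A M₀ R₂) := by
  letI : Algebra R₁ R₂ := φ.toRingHom.toAlgebra
  haveI : IsScalarTower A R₁ R₂ := IsScalarTower.of_algebraMap_eq fun a => (φ.commutes a).symm
  let ι : FlatLib.BC σ A M₀ R₁ →ₗ[R₁] FlatLib.BC σ A M₀ R₂ :=
    { toFun := FlatLib.bcMap σ M₀ φ
      map_add' := map_add _
      map_smul' := fun r x => by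
        rw [LinearMap.map_smulₛₗ, RingHom.id_apply, ← algebraMap_smul R₂ r]
        rfl }
  have hcomp : ι.restrictScalars A ∘ₗ FlatLib.inc σ A M₀ R₁ = FlatLib.inc σ A M₀ R₂ :=
    LinearMap.ext fun m => FlatLib.bcMap_inc σ M₀ φ m
  have hι : IsBaseChange R₂ ι :=
    IsBaseChange.of_comp (FlatLib.isBaseChange_inc σ A M₀ R₁) (hcomp ▸ FlatLib.isBaseChange_inc σ A M₀ R₂)
  refine FlatLib.flat_localized_baseChange ((PrimeSpectrum.comap (FlatLib.polyMap σ φ).toRingHom q)).asIdeal.primeCompl (LocalizedModule.mkLinearMap _ _)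
    (q).asIdeal.primeCompl (LocalizedModule.mkLinearMap _ _) (FlatLib.polyMap σ φ).toRingHom ?_ ι hι
    (FlatLib.bcMap_smul σ M₀ φ) hq
  exact fun t ht => ht

set_option synthInstance.maxHeartbeats 200000 in
set_option maxHeartbeats 1000000 in
/-- A uniform Noetherian stage of flatness. -/
theorem exists_uniform_stage (A : Subalgebra ℤ R) (hA : A.FG) (M₀ : Type u) [AddCommGroup M₀] [Module A M₀]
    [Module (MvPolynomial σ A) M₀] [IsScalarTower A (MvPolynomial σ A) M₀] [Module.Finite (MvPolynomial σ A) M₀]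
    [Module.Flat R (FlatLib.BC σ A M₀ R)] :
    ∃ F : Finset R, ∀ q : PrimeSpectrum (MvPolynomial σ R),
      PrimeSpectrum.comap (FlatLib.polyMap σ (Algebra.adjoin A (F : Set R)).val).toRingHom q ∈
        FlatLib.flatLocus (Algebra.adjoin A (F : Set R)) (MvPolynomial σ (Algebra.adjoin A (F : Set R)))
          (FlatLib.BC σ A M₀ (Algebra.adjoin A (F : Set R))) := by
  classical
  haveI : IsNoetherianRing A := isNoetherianRing_of_fg hA
  let π : ∀ F : Finset R, PrimeSpectrum (MvPolynomial σ R) → PrimeSpectrum (MvPolynomial σ (Algebra.adjoin A (F : Set R))) :=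
    fun F => PrimeSpectrum.comap (FlatLib.polyMap σ (Algebra.adjoin A (F : Set R)).val).toRingHom
  let U : Finset R → Set (PrimeSpectrum (MvPolynomial σ R)) := fun F =>
    π F ⁻¹' FlatLib.flatLocus (Algebra.adjoin A (F : Set R)) (MvPolynomial σ (Algebra.adjoin A (F : Set R)))
      (FlatLib.BC σ A M₀ (Algebra.adjoin A (F : Set R)))
  have hmono : ∀ F F' : Finset R, F ⊆ F' → U F ⊆ U F' := by
    intro F F' hFF' q hq
    let φ : Algebra.adjoin A (F : Set R) →ₐ[A] Algebra.adjoin A (F' : Set R) :=
      Subalgebra.inclusion (Algebra.adjoin_mono (Finset.coe_subset.mpr hFF'))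
    refine mem_flatLocus_map (σ := σ) (M₀ := M₀) φ _ ?_
    have e : (FlatLib.polyMap σ (Algebra.adjoin A (F' : Set R)).val).toRingHom.comp (FlatLib.polyMap σ φ).toRingHom =
        (FlatLib.polyMap σ (Algebra.adjoin A (F : Set R)).val).toRingHom :=
      RingHom.ext fun t => by
        show MvPolynomial.map _ (MvPolynomial.map _ t) = MvPolynomial.map _ t
        rw [MvPolynomial.map_map]
        rfl
    rw [← PrimeSpectrum.comap_comp_apply, e]
    exact hq
  have hopen : ∀ F, IsOpen (U F) := fun F => by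
    haveI : IsNoetherianRing (Algebra.adjoin A (F : Set R)) := isNoetherianRing_of_fg ⟨F, rfl⟩
    exact FlatLib.isOpen_flatLocus.preimage (PrimeSpectrum.continuous_comap _)
  have hcover : (Set.univ : Set (PrimeSpectrum (MvPolynomial σ R))) ⊆ ⋃ F, U F := fun q _ => by
    have hq : q ∈ FlatLib.flatLocus R (MvPolynomial σ R) (FlatLib.BC σ A M₀ R) :=
      FlatLib.flat_localized q.asIdeal.primeCompl (LocalizedModule.mkLinearMap _ _)
    obtain ⟨F, hF⟩ := FlatLib.exists_stage_mem_flatLocus σ M₀ q hq
    exact Set.mem_iUnion.2 ⟨F, hF⟩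
  obtain ⟨s, hs⟩ := isCompact_univ.elim_finite_subcover U hopen hcover
  refine ⟨s.biUnion _root_.id, fun q => ?_⟩
  obtain ⟨F, hF, hqF⟩ := Set.mem_iUnion₂.1 (hs (Set.mem_univ q))
  exact hmono F _ (Finset.subset_biUnion_of_mem _root_.id hF) hqF

/-- Base change of a presentation along a flat locus. -/
theorem exists_fp_ker_baseChange (R₁ R S₁ P : Type u) [CommRing R₁] [CommRing R] [CommRing S₁] [CommRing P]
    [Algebra R₁ R] [Algebra R₁ S₁] [Algebra R₁ P] [Algebra R P] [Algebra S₁ P] [IsScalarTower R₁ R P]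
    [IsScalarTower R₁ S₁ P] [Algebra.IsPushout R₁ R S₁ P] [IsNoetherianRing S₁] (M₁ : Type u) [AddCommGroup M₁]
    [Module R₁ M₁] [Module S₁ M₁] [IsScalarTower R₁ S₁ M₁] [Module.Finite S₁ M₁]
    (hF : ∀ q : PrimeSpectrum P, PrimeSpectrum.comap (algebraMap S₁ P) q ∈ FlatLib.flatLocus R₁ S₁ M₁) :
    ∃ (n : ℕ) (g : (Fin n → P) →ₗ[P] P ⊗[S₁] M₁), Function.Surjective g ∧
      Module.FinitePresentation P (LinearMap.ker g) := by
  obtain ⟨n, g₁, hg₁⟩ := Module.Finite.exists_fin' S₁ M₁
  let K := LinearMap.ker g₁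
  haveI : Module.Finite S₁ K := Module.Finite.of_fg (IsNoetherian.noetherian _)
  haveI : Module.FinitePresentation S₁ K := Module.finitePresentation_of_finite S₁ K
  let eF : P ⊗[S₁] (Fin n → S₁) ≃ₗ[P] (Fin n → P) := TensorProduct.piScalarRight S₁ P P (Fin n)
  let g : (Fin n → P) →ₗ[P] P ⊗[S₁] M₁ := g₁.baseChange P ∘ₗ eF.symm.toLinearMap
  have hg : Function.Surjective g :=
    (LinearMap.lTensor_surjective P hg₁).comp eF.symm.surjective
  refine ⟨n, g, hg, ?_⟩
  let j : P ⊗[S₁] K →ₗ[P] (Fin n → P) := eF.toLinearMap ∘ₗ K.subtype.baseChange P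
  have hex : Function.Exact (K.subtype.baseChange P) (g₁.baseChange P) :=
    lTensor_exact P (LinearMap.exact_subtype_ker_map g₁) hg₁
  have hjinj : Function.Injective j := by
    refine eF.injective.comp ((injective_iff_map_eq_zero (K.subtype.baseChange P)).2 fun x hx => ?_)
    -- pass to the base
    let cK := Algebra.IsPushout.cancelBaseChange R₁ R S₁ P K
    let cF := Algebra.IsPushout.cancelBaseChange R₁ R S₁ P (Fin n → S₁)
    have hc : ∀ {X : Type u} [AddCommGroup X] [Module S₁ X] [Module R₁ X] [IsScalarTower R₁ S₁ X] (r : R) (m : X),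
        (Algebra.IsPushout.cancelBaseChange R₁ R S₁ P X).symm (r ⊗ₜ m) = algebraMap R P r ⊗ₜ[S₁] m :=
      fun r m => Algebra.IsPushout.cancelBaseChange_symm_tmul R₁ R S₁ P _ r m
    obtain ⟨y, rfl⟩ : ∃ y : (K ⊗[R₁] R), cK.symm (TensorProduct.comm R₁ K R y) = x :=
      ⟨(TensorProduct.comm R₁ K R).symm (cK x), by simp⟩
    have hy : (K.subtype.restrictScalars R₁).rTensor R y = 0 := by
      have h : ∀ z, K.subtype.baseChange P (cK.symm (TensorProduct.comm R₁ K R z)) =
          cF.symm (TensorProduct.comm R₁ _ R ((K.subtype.restrictScalars R₁).rTensor R z)) := fun z => by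
        induction z using TensorProduct.induction_on with
        | zero => simp
        | add a b ha hb => simp only [map_add, ha, hb]
        | tmul a b =>
          rw [TensorProduct.comm_tmul, hc, LinearMap.baseChange_tmul, LinearMap.rTensor_tmul,
            TensorProduct.comm_tmul, hc]
          rfl
      apply (TensorProduct.comm R₁ (Fin n → S₁) R).injective
      apply cF.symm.injective
      rw [← h, hx, map_zero, map_zero]
    by_contra hne
    let Ann : Ideal P := LinearMap.ker (LinearMap.toSpanSingleton P _ (cK.symm (TensorProduct.comm R₁ K R y)))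
    have hAnn : Ann ≠ ⊤ := fun h => hne (by
      have h1 : (1 : P) ∈ Ann := h ▸ Submodule.mem_top
      rwa [LinearMap.mem_ker, LinearMap.toSpanSingleton_apply, one_smul] at h1)
    obtain ⟨q, hq, hle⟩ := Ideal.exists_le_maximal Ann hAnn
    obtain ⟨t, ht, hty⟩ := exists_smul_eq_zero K.subtype g₁ Subtype.val_injective
      (LinearMap.exact_subtype_ker_map g₁) hg₁ _ (hF ⟨q, hq.isPrime⟩) y hy
    refine ht (hle ?_)
    rw [LinearMap.mem_ker, LinearMap.toSpanSingleton_apply]
    show algebraMap S₁ P t • _ = _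
    have h2 : ∀ z, cK.symm (TensorProduct.comm R₁ K R (t • z)) =
        algebraMap S₁ P t • cK.symm (TensorProduct.comm R₁ K R z) := fun z => by
      induction z using TensorProduct.induction_on with
      | zero => simp
      | add a b ha hb => simp only [smul_add, map_add, ha, hb]
      | tmul a b =>
        rw [smul_tmul', TensorProduct.comm_tmul, TensorProduct.comm_tmul, hc, hc, algebraMap_smul, tmul_smul]
    have h3 := h2 y
    rw [hty, map_zero, map_zero] at h3
    exact h3.symm
  have hker : LinearMap.ker g = LinearMap.range j := by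
    ext z
    constructor
    · intro hz
      obtain ⟨w, hw⟩ := (hex (eF.symm z)).1 hz
      exact ⟨w, by show eF (K.subtype.baseChange P w) = z; rw [hw, eF.apply_symm_apply]⟩
    · rintro ⟨w, rfl⟩
      show g₁.baseChange P (eF.symm (eF (K.subtype.baseChange P w))) = 0
      rw [eF.symm_apply_apply, hex.apply_apply_eq_zero]
  exact Module.FinitePresentation.of_equiv ((LinearEquiv.ofInjective j hjinj) ≪≫ₗ LinearEquiv.ofEq _ _ hker.symm)


set_option synthInstance.maxHeartbeats 200000 in
set_option maxHeartbeats 1000000 in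
/-- Over a polynomial ring: some presentation has finitely presented syzygies. -/
theorem exists_fp_ker_poly (M : Type u) [AddCommGroup M] [Module (MvPolynomial σ R) M] [Module R M]
    [IsScalarTower R (MvPolynomial σ R) M] [Module.FinitePresentation (MvPolynomial σ R) M] [Module.Flat R M] :
    ∃ (n : ℕ) (g : (Fin n → MvPolynomial σ R) →ₗ[MvPolynomial σ R] M), Function.Surjective g ∧
      Module.FinitePresentation (MvPolynomial σ R) (LinearMap.ker g) := by
  obtain ⟨A, M₀, _, _, _, _, hA, _, ⟨e⟩, -⟩ := FlatLib.exists_model (σ := σ) (R := R) (M := M) (∅ : Finset (MvPolynomial σ R)) (fun g hg => absurd hg (Finset.notMem_empty g))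
  haveI : IsNoetherianRing A := isNoetherianRing_of_fg hA
  haveI : Module.Flat R (FlatLib.BC σ A M₀ R) := Module.Flat.of_linearEquiv (e.restrictScalars R)
  obtain ⟨F, hF⟩ := exists_uniform_stage (σ := σ) A hA M₀
  let R₁ := Algebra.adjoin A (F : Set R)
  haveI : IsNoetherianRing R₁ := isNoetherianRing_of_fg ⟨F, rfl⟩
  haveI : IsScalarTower (MvPolynomial σ A) (MvPolynomial σ R₁) (MvPolynomial σ R) := IsScalarTower.of_algebraMap_eq fun x => by
    show MvPolynomial.map (algebraMap A R) x = MvPolynomial.map (algebraMap R₁ R) (MvPolynomial.map (algebraMap A R₁) x)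
    rw [MvPolynomial.map_map, ← IsScalarTower.algebraMap_eq]
  obtain ⟨n, g, hg, hfp⟩ := exists_fp_ker_baseChange R₁ R (MvPolynomial σ R₁) (MvPolynomial σ R)
    (FlatLib.BC σ A M₀ R₁) hF
  let eM : MvPolynomial σ R ⊗[MvPolynomial σ R₁] FlatLib.BC σ A M₀ R₁ ≃ₗ[MvPolynomial σ R] M :=
    (AlgebraTensorModule.cancelBaseChange (MvPolynomial σ A) (MvPolynomial σ R₁) (MvPolynomial σ R) (MvPolynomial σ R) M₀) ≪≫ₗ e
  refine ⟨n, eM.toLinearMap ∘ₗ g, eM.surjective.comp hg, ?_⟩
  rw [LinearEquiv.ker_comp]
  exact hfp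

/-- Over a finitely presented algebra. -/
theorem exists_fp_ker {A B : Type u} [CommRing A] [CommRing B] [Algebra A B] [Algebra.FinitePresentation A B]
    (M : Type u) [AddCommGroup M] [Module B M] [Module A M] [IsScalarTower A B M] [Module.FinitePresentation B M]
    [Module.Flat A M] :
    ∃ (n : ℕ) (g : (Fin n → B) →ₗ[B] M), Function.Surjective g ∧ Module.FinitePresentation B (LinearMap.ker g) := by
  obtain ⟨σ, hσ, π, hπ, hkerπ⟩ := Algebra.FinitePresentation.iff_quotient_mvPolynomial'.{_, _, u}.mp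
    (inferInstance : Algebra.FinitePresentation A B)
  let P := MvPolynomial σ A
  letI : Algebra P B := π.toRingHom.toAlgebra
  letI : Module P M := Module.compHom M π.toRingHom
  haveI : IsScalarTower P B M := IsScalarTower.of_algebraMap_smul fun _ _ ↦ rfl
  haveI : IsScalarTower A P M := IsScalarTower.of_algebraMap_smul fun r m ↦ by
    show π (algebraMap A P r) • m = r • m
    rw [π.commutes, algebraMap_smul]
  haveI : Module.FinitePresentation P B :=
    Module.finitePresentation_of_surjective (Algebra.linearMap P B) hπ hkerπ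
  haveI : Module.FinitePresentation P M := Module.FinitePresentation.trans P M B
  haveI : Finite σ := Finite.of_fintype σ
  obtain ⟨n, g, hg, hfp⟩ := exists_fp_ker_poly (σ := σ) (R := A) M
  let θ : (Fin n → P) →ₗ[P] (Fin n → B) := LinearMap.pi fun i => Algebra.linearMap P B ∘ₗ LinearMap.proj i
  let gB : (Fin n → B) →ₗ[B] M := Fintype.linearCombination B fun i => g (Pi.single i 1)
  have hcomp : ∀ x, gB (θ x) = g x := fun x => by
    conv_rhs => rw [pi_eq_sum_univ' x]
    rw [map_sum, Fintype.linearCombination_apply]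
    refine Finset.sum_congr rfl fun i _ => ?_
    rw [map_smul]
    exact algebraMap_smul B (x i) _
  refine ⟨n, gB, fun m => ?_, ?_⟩
  · obtain ⟨x, rfl⟩ := hg m
    exact ⟨θ x, hcomp x⟩
  have hθs : Function.Surjective θ := fun y => by
    choose x hx using fun i => hπ (y i)
    exact ⟨x, funext hx⟩
  let ψ : LinearMap.ker g →ₗ[P] LinearMap.ker gB :=
    (θ ∘ₗ (LinearMap.ker g).subtype).codRestrict ((LinearMap.ker gB).restrictScalars P) fun x => by
      show gB (θ x.1) = 0
      rw [hcomp]; exact x.2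
  have hψ : Function.Surjective ψ := fun z => by
    obtain ⟨x, hx⟩ := hθs z.1
    refine ⟨⟨x, ?_⟩, Subtype.ext hx⟩
    rw [LinearMap.mem_ker, ← hcomp, hx]
    exact z.2
  have hkψ : (LinearMap.ker ψ).FG := by
    have hθ : (LinearMap.ker θ).FG := by
      have : Module.FinitePresentation P (Fin n → B) := inferInstance
      exact Module.FinitePresentation.fg_ker θ hθs
    have hle : LinearMap.ker θ ≤ LinearMap.ker g := fun x hx => by
      rw [LinearMap.mem_ker, ← hcomp, LinearMap.mem_ker.1 hx, map_zero]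
    have : LinearMap.ker ψ = (LinearMap.ker θ).comap (LinearMap.ker g).subtype := by
      ext x
      exact ⟨fun h => congrArg Subtype.val (LinearMap.mem_ker.1 h), fun h => LinearMap.mem_ker.2 (Subtype.ext h)⟩
    rw [this]
    exact Submodule.fg_of_fg_map_injective (LinearMap.ker g).subtype Subtype.val_injective
      (by rwa [Submodule.map_comap_eq_self (by rw [Submodule.range_subtype]; exact hle)])
  haveI : Module.FinitePresentation P (LinearMap.ker gB) := Module.finitePresentation_of_surjective ψ hψ hkψ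
  exact Module.FinitePresentation.of_equiv (FlatLib.isBaseChange_id_of_surjective (P := P) (S := B) hπ).equiv

end PDLib
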