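import Groth.Agent.TorDimLib.Basic
import Groth.Agent.PDLib.Syzygy
import Mathlib.CategoryTheory.Abelian.Projective.Dimension

/-! Projective dimension against tor dimension, for finitely presented modules flat over the base. -/

set_option autoImplicit false
universe u

open CategoryTheory CategoryTheory.Limits TensorProduct MonoidalCategory TorDimLib

namespace PDLib

section

variable {A : Type u} [CommRing A]

theorem exactAtSucc_of_flat (M : Type u) [AddCommGroup M] [Module A M] [Module.Flat A M] {Z : ModuleCat.{u} A}
    (P : ProjectiveResolution Z) (p : ℕ) : ExactAtSucc M P p :=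
  Module.Flat.lTensor_exact M ((ShortComplex.ShortExact.moduleCat_exact_iff_function_exact _).1 (P.exact_succ p))

theorem isZero_tor_of_exactAtSucc {M : Type u} [AddCommGroup M] [Module A M] {N : ModuleCat.{u} A}
    (P : ProjectiveResolution N) (p : ℕ) (h : ExactAtSucc M P p) :
    IsZero (((Tor (ModuleCat.{u} A) (p + 1)).obj (ModuleCat.of A M)).obj N) := by
  let F := (tensoringLeft (ModuleCat.{u} A)).obj (ModuleCat.of A M)
  let K := (F.mapHomologicalComplex (ComplexShape.down ℕ)).obj P.complex
  have h3 : (K.sc' (p + 2) (p + 1) p).Exact :=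
    (ShortComplex.ShortExact.moduleCat_exact_iff_function_exact _).2 h
  have h2 : K.ExactAt (p + 1) :=
    (K.exactAt_iff' (p + 2) (p + 1) p (by simp only [ChainComplex.prev]; rfl) (by simp)).2 h3
  exact ((K.exactAt_iff_isZero_homology _).1 h2).of_iso (P.isoLeftDerivedObj F (p + 1))

/-- Converse dimension shift. -/
theorem exactAtSucc_unshift {K F Q : Type u} [AddCommGroup K] [Module A K] [AddCommGroup F] [Module A F]
    [AddCommGroup Q] [Module A Q] [Module.Flat A F] (ι : K →ₗ[A] F) (π : F →ₗ[A] Q) (hι : Function.Injective ι)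
    (hex : Function.Exact ι π) (hπ : Function.Surjective π) {Z : ModuleCat.{u} A} (P : ProjectiveResolution Z)
    (p : ℕ) (h : ExactAtSucc K P p) : ExactAtSucc Q P (p + 1) := by
  intro z
  refine ⟨fun hz => ?_, ?_⟩
  · let D1 := (P.complex.d (p + 1) p).hom
    let D2 := (P.complex.d (p + 2) (p + 1)).hom
    let D3 := (P.complex.d (p + 3) (p + 2)).hom
    have := flat_X P p
    have hinj : Function.Injective (ι.rTensor (P.complex.X p)) :=
      Module.Flat.rTensor_preserves_injective_linearMap ι hι
    obtain ⟨w, rfl⟩ := LinearMap.rTensor_surjective (P.complex.X (p + 2)) hπ z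
    obtain ⟨v, hv⟩ := (rTensor_exact (P.complex.X (p + 1)) hex hπ (D2.lTensor F w)).1 (by rw [← comm_apply]; exact hz)
    have hdv : D1.lTensor K v = 0 := hinj (by
      rw [map_zero, ← comm_apply, hv]
      exact d_d P F _ _ _ w)
    obtain ⟨u', hu'⟩ := (h v).1 hdv
    obtain ⟨w', hw'⟩ := (exactAtSucc_of_flat F P (p + 1) (w - ι.rTensor _ u')).1 (by
      show D2.lTensor F (w - ι.rTensor _ u') = 0
      rw [map_sub, comm_apply, hu', hv, sub_self])
    refine ⟨π.rTensor _ w', ?_⟩
    rw [comm_apply, hw', map_sub, ← LinearMap.comp_apply _ (ι.rTensor _), ← LinearMap.rTensor_comp,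
      hex.linearMap_comp_eq_zero, LinearMap.rTensor_zero, LinearMap.zero_apply, sub_zero]
  · rintro ⟨w, rfl⟩
    exact d_d P Q _ _ _ w

end

variable {A B : Type u} [CommRing A] [CommRing B] [Algebra A B]

/-- The kernel of a surjection between modules flat over the base is flat. -/
theorem flat_ker {F Q : Type u} [AddCommGroup F] [Module A F] [AddCommGroup Q] [Module A Q] [Module.Flat A F]
    [Module.Flat A Q] (g : F →ₗ[A] Q) (hg : Function.Surjective g) : Module.Flat A (LinearMap.ker g) :=
  flat_of_exactAtSucc fun N _ _ P => exactAtSucc_shift (LinearMap.ker g).subtype g Subtype.val_injective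
    (LinearMap.exact_subtype_ker_map g) hg P 0 (exactAtSucc_of_flat Q P 1)

/-- A presentation with finitely presented flat syzygies, as a short exact sequence. -/
theorem exists_step [Algebra.FinitePresentation A B] [Module.Flat A B] (M : Type u) [AddCommGroup M] [Module B M]
    [Module A M] [IsScalarTower A B M] [Module.FinitePresentation B M] [Module.Flat A M] :
    ∃ (n : ℕ) (g : (Fin n → B) →ₗ[B] M), Function.Surjective g ∧
      Module.FinitePresentation B (LinearMap.ker g) ∧ Module.Flat A (LinearMap.ker g) := by
  obtain ⟨n, g, hg, hfp⟩ := exists_fp_ker (A := A) (B := B) M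
  have : Module.Flat A (Fin n → B) := Module.Flat.trans A B _
  exact ⟨n, g, hg, hfp, flat_ker (g.restrictScalars A) hg⟩

theorem hasPDLE_succ_iff {R : Type u} [CommRing R] {F Q : Type u} [AddCommGroup F] [Module R F] [AddCommGroup Q]
    [Module R Q] [Module.Projective R F] {K : Type u} [AddCommGroup K] [Module R K] (i : K →ₗ[R] F) (g : F →ₗ[R] Q)
    (hi : Function.Injective i) (hex : Function.Exact i g) (hg : Function.Surjective g) (n : ℕ) :
    HasProjectiveDimensionLE (ModuleCat.of R Q) (n + 1) ↔ HasProjectiveDimensionLE (ModuleCat.of R K) n := by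
  let S : ShortComplex (ModuleCat.{u} R) :=
    ShortComplex.mk (ModuleCat.ofHom i) (ModuleCat.ofHom g) (ModuleCat.hom_ext hex.linearMap_comp_eq_zero)
  haveI : Mono S.f := (ModuleCat.mono_iff_injective _).2 hi
  haveI : Epi S.g := (ModuleCat.epi_iff_surjective _).2 hg
  have hS : S.ShortExact := { exact := (ShortComplex.ShortExact.moduleCat_exact_iff_function_exact S).2 hex }
  exact hS.hasProjectiveDimensionLT_X₃_iff n ((IsProjective.iff_projective F).1 inferInstance)

variable [Algebra.FinitePresentation A B] [Module.Flat A B]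

/-- Projective dimension through vanishing of tor. -/
theorem hasPDLE_iff_exactAtSucc : ∀ (n : ℕ) (M : Type u) [AddCommGroup M] [Module B M] [Module A M]
    [IsScalarTower A B M] [Module.FinitePresentation B M] [Module.Flat A M],
    HasProjectiveDimensionLE (ModuleCat.of B M) n ↔
      ∀ (N : ModuleCat.{u} B) (P : ProjectiveResolution N) (p : ℕ), n ≤ p → ExactAtSucc M P p := by
  intro n
  induction n with
  | zero =>
    intro M _ _ _ _ _ _
    rw [← projective_iff_hasProjectiveDimensionLE_zero, ← IsProjective.iff_projective]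
    refine ⟨fun _ N P p _ => exactAtSucc_of_flat M P p, fun h => ?_⟩
    haveI : Module.Flat B M := flat_of_exactAtSucc fun N _ _ P => h _ P 0 le_rfl
    exact Module.Flat.projective_of_finitePresentation
  | succ n ih =>
    intro M _ _ _ _ _ _
    obtain ⟨m, g, hg, _, _⟩ := exists_step (A := A) (B := B) M
    rw [hasPDLE_succ_iff (LinearMap.ker g).subtype g Subtype.val_injective (LinearMap.exact_subtype_ker_map g) hg n,
      ih (LinearMap.ker g)]
    refine ⟨fun h N P p hp => ?_, fun h N P p hp => ?_⟩
    · obtain ⟨p, rfl⟩ : ∃ q, p = q + 1 := ⟨p - 1, by omega⟩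
      exact exactAtSucc_unshift (LinearMap.ker g).subtype g Subtype.val_injective
        (LinearMap.exact_subtype_ker_map g) hg P p (h N P p (by omega))
    · exact exactAtSucc_shift (LinearMap.ker g).subtype g Subtype.val_injective
        (LinearMap.exact_subtype_ker_map g) hg P p (h N P (p + 1) (by omega))

/-- Projective dimension through vanishing of tor. -/
theorem projectiveDimension_le_iff_tor (M : Type u) [AddCommGroup M] [Module B M] [Module A M]
    [IsScalarTower A B M] [Module.FinitePresentation B M] [Module.Flat A M] (n : ℕ) :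
    projectiveDimension (ModuleCat.of B M) ≤ n ↔ ∀ i : ℕ, n < i → ∀ N : ModuleCat.{u} B,
      IsZero (((Tor (ModuleCat.{u} B) i).obj (ModuleCat.of B M)).obj N) := by
  rw [projectiveDimension_le_iff, hasPDLE_iff_exactAtSucc (A := A)]
  refine ⟨fun h i hi N => ?_, fun h N P p hp => ?_⟩
  · obtain ⟨i, rfl⟩ : ∃ q, i = q + 1 := ⟨i - 1, by omega⟩
    obtain ⟨P⟩ := (inferInstance : HasProjectiveResolution N).out
    exact isZero_tor_of_exactAtSucc P i (h N P i (by omega))
  · exact exactAtSucc_of_subsingleton_tor (N := N) P p
      (ModuleCat.isZero_of_iff_subsingleton.1 (h (p + 1) (by omega) N))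

end PDLib
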